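import Mathlib.Algebra.Module.ZMod
import Mathlib.Algebra.Module.Projective
import Mathlib.Algebra.Field.ZMod
import Mathlib.LinearAlgebra.Basis.VectorSpace
import Mathlib.GroupTheory.QuotientGroup.Basic

/-!
# Extensions of groups killed by `p` split
-/

set_option autoImplicit false

namespace MuFppfLib

/-- Surjections of groups killed by `p` have sections. -/
theorem exists_section {C T : Type*} [AddCommGroup C] [AddCommGroup T] (p : ℕ) [hp : Fact p.Prime]
    [Module (ZMod p) C] [Module (ZMod p) T] (g : C →+ T) (hg : Function.Surjective g) :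
    ∃ s : T →+ C, ∀ x, g (s x) = x := by
  obtain ⟨s, hs⟩ := Module.projective_lifting_property (g.toZModLinearMap p) LinearMap.id hg
  exact ⟨s.toAddMonoidHom, fun x => LinearMap.congr_fun hs x⟩

/-- A group killed by `p` between `A/pA` and `A'[p]` is their product. -/
theorem nonempty_equiv_prod {A A' C : Type*} [AddCommGroup A] [AddCommGroup A'] [AddCommGroup C] (p : ℕ) [Fact p.Prime]
    (hC : ∀ c : C, p • c = 0) (f : A →+ C) (g : C →+ A')
    (hker : ∀ a, f a = 0 ↔ ∃ b, p • b = a) (hex : ∀ c, g c = 0 ↔ ∃ a, f a = c)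
    (hg : ∀ a', p • a' = 0 ↔ ∃ c, g c = a') :
    Nonempty (C ≃+ (A ⧸ (nsmulAddMonoidHom (α := A) p).range) × (nsmulAddMonoidHom (α := A') p).ker) := by
  let T := (nsmulAddMonoidHom (α := A') p).ker
  have hT : ∀ x : T, p • x = 0 := fun x => Subtype.ext (AddMonoidHom.mem_ker.1 x.2)
  letI : Module (ZMod p) C := AddCommGroup.zmodModule hC
  letI : Module (ZMod p) T := AddCommGroup.zmodModule hT
  let g' : C →+ T := g.codRestrict T fun c => AddMonoidHom.mem_ker.2 ((hg (g c)).2 ⟨c, rfl⟩)
  haveI : Module.Projective (ZMod p) T := Module.Projective.of_basis (Module.Basis.ofVectorSpace (ZMod p) T)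
  obtain ⟨s, hs⟩ := exists_section p g' fun (x : T) => by
    obtain ⟨c, hc⟩ := (hg x.1).1 (AddMonoidHom.mem_ker.1 x.2)
    exact ⟨c, Subtype.ext hc⟩
  have hs' : ∀ x : T, g (s x) = x.1 := fun x => congrArg Subtype.val (hs x)
  let f' : A ⧸ (nsmulAddMonoidHom (α := A) p).range →+ C :=
    QuotientAddGroup.lift _ f (fun a ha => AddMonoidHom.mem_ker.2 ((hker a).2 (AddMonoidHom.mem_range.1 ha)))
  let Φ : (A ⧸ (nsmulAddMonoidHom (α := A) p).range) × T →+ C :=
    AddMonoidHom.coprod f' s
  have hgf : ∀ z, g (f' z) = 0 := fun z => by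
    induction z using QuotientAddGroup.induction_on with
    | H a => exact (hex _).2 ⟨a, rfl⟩
  refine ⟨(AddEquiv.ofBijective Φ ⟨(injective_iff_map_eq_zero Φ).2 ?_, fun c => ?_⟩).symm⟩
  · rintro ⟨z, x⟩ h
    have hx : x = 0 := by
      refine Subtype.ext ?_
      have := congrArg g h
      rw [map_zero] at this
      simpa [Φ, hgf, hs'] using this
    subst hx
    induction z using QuotientAddGroup.induction_on with
    | H a =>
      have : f a = 0 := by simpa [Φ, f'] using h
      obtain ⟨b, hb⟩ := (hker a).1 this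
      exact Prod.ext ((QuotientAddGroup.eq_zero_iff _).2 ⟨b, hb⟩) rfl
  · let x : T := g' c
    obtain ⟨a, ha⟩ := (hex (c - s x)).1 (by rw [map_sub, hs', sub_eq_zero]; rfl)
    exact ⟨(QuotientAddGroup.mk a, x), by show f a + s x = c; rw [ha, sub_add_cancel]⟩

end MuFppfLib
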