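import Groth.Agent.EtFppfLib.SmoothMain
import Groth.Agent.AlgSpLib.ReducedSmooth
import Groth.Prelude.Def_Frob
import Mathlib.RingTheory.AdjoinRoot

/-!
# The Kummer sequence for `μ_p` in characteristic `p`
-/

set_option autoImplicit false
set_option linter.unusedSectionVars false
set_option linter.style.haveILetI false
set_option backward.isDefEq.respectTransparency false
set_option backward.isDefEq.respectTransparency.types false
set_option maxHeartbeats 1000000

universe u

open CategoryTheory CategoryTheory.Limits AlgebraicGeometry Opposite Polynomial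

noncomputable section

namespace MuFppfLib

/-- A finite free cover where an element gets an `n`-th root. -/
theorem exists_root_cover {A : CommRingCat.{u}} (n : ℕ) (hn : 0 < n) (a : A) :
    ∃ (B : CommRingCat.{u}) (φ : A ⟶ B), Flat (Spec.map φ) ∧ LocallyOfFinitePresentation (Spec.map φ) ∧
      Function.Surjective (Spec.map φ).base ∧ ∃ y : B, y ^ n = φ.hom a := by
  rcases subsingleton_or_nontrivial A with hA | hA
  · exact ⟨A, 𝟙 A, by rw [Spec.map_id]; infer_instance, by rw [Spec.map_id]; infer_instance,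
      by rw [Spec.map_id]; exact Function.surjective_id, 0, Subsingleton.elim _ _⟩
  let f : A[X] := X ^ n - C a
  have hm : f.Monic := monic_X_pow_sub_C a hn.ne'
  haveI : Module.Free A (AdjoinRoot f) := hm.free_adjoinRoot
  haveI : Module.Finite A (AdjoinRoot f) := hm.finite_adjoinRoot
  have hnd : f.natDegree = n := natDegree_X_pow_sub_C
  haveI : Nontrivial (AdjoinRoot f) := nontrivial_of_ne _ 0
    ((AdjoinRoot.powerBasis' hm).basis.ne_zero ⟨0, by rw [AdjoinRoot.powerBasis'_dim, hnd]; exact hn⟩)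
  haveI : Module.FaithfullyFlat A (AdjoinRoot f) := inferInstance
  refine ⟨CommRingCat.of (AdjoinRoot f), CommRingCat.ofHom (algebraMap A (AdjoinRoot f)), ?_, ?_, ?_,
    AdjoinRoot.root f, ?_⟩
  · exact (HasRingHomProperty.Spec_iff (P := @Flat)).2 (RingHom.flat_algebraMap_iff.2 inferInstance)
  · exact (HasRingHomProperty.Spec_iff (P := @LocallyOfFinitePresentation)).2
      (RingHom.finitePresentation_algebraMap.2 (AdjoinRoot.finitePresentation f))
  · exact PrimeSpectrum.comap_surjective_of_faithfullyFlat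
  · have h := AdjoinRoot.eval₂_root f
    simp only [f, eval₂_sub, eval₂_pow, eval₂_X, eval₂_C, sub_eq_zero] at h
    exact h

theorem nsmul_app {C : Type*} [Category C] {J : GrothendieckTopology C} {F G : Sheaf J AddCommGrpCat.{u + 1}}
    (φ : F ⟶ G) (n : ℕ) (U : Cᵒᵖ) (x : F.obj.obj U) : (n • φ).hom.app U x = n • φ.hom.app U x := by
  induction n with
  | zero => rw [zero_smul, zero_smul]; rfl
  | succ n ih => rw [succ_nsmul, succ_nsmul, ← ih]; rfl

/-- The `n`-th power map on `G_m` is an epimorphism in the fppf topology. -/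
theorem epi_nsmul_GmF (X : Scheme.{u}) (n : ℕ) (hn : 0 < n) : Epi (n • 𝟙 (EtDl.GmF X)) := by
  refine (Sheaf.isLocallySurjective_iff_epi' (J := EtFppf.J X) (A := AddCommGrpCat.{u + 1}) _).1 ⟨fun {U} s => ?_⟩
  let v : (Γ(U.left, ⊤))ˣ := Additive.toMul (ULift.down s)
  rw [GrothendieckTopology.mem_over_iff]
  let C := U.left.affineCover
  choose B φ hfl hfp hsurj y hy using fun i => exists_root_cover (A := Γ(C.X i, ⊤)) n hn ((C.f i).appTop.hom v.val)
  let W : C.I₀ → Scheme.{u} := fun i => Spec (B i)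
  let w : ∀ i, W i ⟶ U.left := fun i => Spec.map (φ i) ≫ (C.X i).isoSpec.inv ≫ C.f i
  refine GrothendieckTopology.superset_covering _ ((Sieve.generate_le_iff _ _).2 ?_)
    (Precoverage.generate_mem_toGrothendieck (R := Presieve.ofArrows W w) ?_)
  · rintro Z g ⟨i⟩
    refine (Sieve.overEquiv_iff _ _).2 ?_
    have hunit : IsUnit ((Scheme.ΓSpecIso (B i)).inv.hom (y i)) := by
      refine IsUnit.map _ ((isUnit_pow_iff hn.ne').1 ?_)
      rw [hy i]
      exact (v.isUnit.map (C.f i).appTop.hom).map (φ i).hom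
    refine ⟨ULift.up (Additive.ofMul hunit.unit), ?_⟩
    refine (nsmul_app _ n _ _).trans ?_
    refine ULift.ext _ _ (congrArg Additive.ofMul (Units.ext ?_))
    show ((Scheme.ΓSpecIso (B i)).inv.hom (y i)) ^ n = (w i).appTop.hom v.val
    rw [← map_pow, hy i]
    show ((φ i) ≫ (Scheme.ΓSpecIso (B i)).inv).hom ((C.f i).appTop.hom v.val) = _
    rw [Scheme.ΓSpecIso_inv_naturality]
    have hiso : (C.X i).isoSpec.inv.appTop = (Scheme.ΓSpecIso Γ(C.X i, ⊤)).inv := by
      rw [← cancel_epi (Scheme.ΓSpecIso Γ(C.X i, ⊤)).hom, Iso.hom_inv_id, ← Scheme.toSpecΓ_appTop]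
      exact (Scheme.Hom.comp_appTop _ _).symm.trans (congrArg Scheme.Hom.appTop (C.X i).isoSpec.inv_hom_id)
    rw [← hiso]
    rfl
  · refine (Scheme.ofArrows_mem_precoverage_iff _).2 ⟨fun x => ?_, fun i => ?_⟩
    · obtain ⟨z, hz⟩ := C.covers x
      obtain ⟨z', hz'⟩ := hsurj (C.idx x) ((C.X (C.idx x)).isoSpec.hom.base z)
      refine ⟨C.idx x, z', ?_⟩
      show (C.f (C.idx x)).base ((C.X (C.idx x)).isoSpec.inv.base ((Spec.map (φ (C.idx x))).base z')) = x
      rw [hz']
      refine Eq.trans ?_ hz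
      exact congrArg (C.f (C.idx x)).base
        (congrArg (fun t : C.X (C.idx x) ⟶ C.X (C.idx x) => t.base z) (C.X (C.idx x)).isoSpec.hom_inv_id)
    · haveI := hfl i
      haveI := hfp i
      exact ⟨inferInstanceAs (Flat (_ ≫ _)), inferInstanceAs (LocallyOfFinitePresentation (_ ≫ _))⟩

variable (X : Scheme.{u}) [EtFppf.ACont X]

/-- Restricting `G_m` to the small étale site. -/
def gmIso : (EtFppf.aPush X).obj (EtDl.GmF X) ≅ EtCoh.Gm X :=
  (fullyFaithfulSheafToPresheaf _ _).preimageIso (NatIso.ofComponents (fun _ => Iso.refl _) (fun _ => rfl))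

omit [EtFppf.ACont X] in
/-- `p`-th roots of unity are trivial on reduced schemes of characteristic `p`. -/
theorem mono_powMap (p : ℕ) [hp : Fact p.Prime] [FrobSch.IsCharP X p] [IsReduced X] : Mono (EtCoh.powMap X p) := by
  haveI : ∀ U, Mono ((EtCoh.powMap X p).hom.app U) := fun U => (AddCommGrpCat.mono_iff_injective _).2 <| by
    refine (injective_iff_map_eq_zero _).2 fun x hx => ?_
    haveI : AlgebraicGeometry.Etale U.unop.hom := U.unop.prop
    let q : U.unop.left ⟶ X := U.unop.hom
    haveI : AlgebraicGeometry.Etale q := U.unop.prop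
    haveI : IsReduced U.unop.left := AlgSpLib.isReduced_of_smooth q
    haveI : _root_.IsReduced Γ(U.unop.left, ⊤) := IsReduced.component_reduced ⊤
    let v : (Γ(U.unop.left, ⊤))ˣ := Additive.toMul (ULift.down x)
    have h1 : v.val ^ p = 1 :=
      congrArg (fun z => (Additive.toMul (ULift.down z)).val) ((nsmul_app (𝟙 (EtCoh.Gm X)) p U x).symm.trans hx)
    have h0 : (p : Γ(U.unop.left, ⊤)) = 0 := by
      rw [← map_natCast q.appTop.hom p, FrobSch.IsCharP.natCast_eq_zero, map_zero]
    rcases subsingleton_or_nontrivial Γ(U.unop.left, ⊤) with hs | hs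
    · exact ULift.ext _ _ (congrArg Additive.ofMul (Units.ext (hs.elim v.val 1)))
    haveI : CharP Γ(U.unop.left, ⊤) p := (CharP.ringChar_of_prime_eq_zero hp.out h0) ▸ ringChar.charP _
    have h2 : (v.val - 1) ^ p = 0 := by rw [sub_pow_char, h1, one_pow, sub_self]
    exact ULift.ext _ _ (congrArg Additive.ofMul (Units.ext (show v.val = 1 from sub_eq_zero.1 (IsReduced.eq_zero _ ⟨p, h2⟩))))
  haveI := NatTrans.mono_of_mono_app (EtCoh.powMap X p).hom
  exact (sheafToPresheaf _ _).mono_of_mono_map this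

end MuFppfLib
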