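import Groth.Agent.MuFppfLib.Basic
import Groth.Agent.MuFppfLib.Algebra

/-!
# Flat cohomology of `μ_p` in characteristic `p`
-/

set_option autoImplicit false
set_option linter.unusedSectionVars false
set_option linter.style.haveILetI false
set_option backward.isDefEq.respectTransparency false
set_option backward.isDefEq.respectTransparency.types false
set_option maxHeartbeats 1000000

universe u

open CategoryTheory CategoryTheory.Limits CategoryTheory.Abelian AlgebraicGeometry Opposite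

noncomputable section

namespace MuFppfLib

variable {C : Type*} [Category C] [Abelian C] [HasExt.{u + 1} C]

theorem comp_mk₀_nsmul {P F G : C} (φ : F ⟶ G) {j : ℕ} (x : Ext.{u + 1} P F j) : ∀ n : ℕ,
    x.comp (Ext.mk₀ (n • φ)) (add_zero j) = n • x.comp (Ext.mk₀ φ) (add_zero j)
  | 0 => by rw [zero_smul, zero_smul, Ext.mk₀_zero, Ext.comp_zero]
  | n + 1 => by rw [succ_nsmul, succ_nsmul, Ext.mk₀_add, Ext.comp_add, comp_mk₀_nsmul φ x n]

/-- The middle of a long exact sequence with multiplication by `p` on both sides, from the left. -/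
theorem equiv_left {P : C} {S : ShortComplex C} (hS : S.ShortExact) (p : ℕ) [Fact p.Prime] (e : S.X₁ ≅ S.X₂)
    (he : S.f = p • e.hom) (hz : p • 𝟙 S.X₃ = 0) (j : ℕ) :
    Nonempty (Ext.{u + 1} P S.X₃ j ≃+ (Ext.{u + 1} P S.X₁ j ⧸ (nsmulAddMonoidHom (α := Ext.{u + 1} P S.X₁ j) p).range) ×
      (nsmulAddMonoidHom (α := Ext.{u + 1} P S.X₁ (j + 1)) p).ker) := by
  let f : Ext.{u + 1} P S.X₁ j →+ Ext.{u + 1} P S.X₃ j :=
    ((Ext.mk₀ S.g).postcomp P (add_zero j)).comp ((Ext.mk₀ e.hom).postcomp P (add_zero j))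
  have hf : ∀ x, f x = (x.comp (Ext.mk₀ e.hom) (add_zero j)).comp (Ext.mk₀ S.g) (add_zero j) := fun x => rfl
  have hi : ∀ {m : ℕ} (x : Ext.{u + 1} P S.X₂ m),
      (x.comp (Ext.mk₀ e.inv) (add_zero m)).comp (Ext.mk₀ e.hom) (add_zero m) = x := fun x => by
    rw [Ext.comp_assoc_of_second_deg_zero, Ext.mk₀_comp_mk₀, e.inv_hom_id, Ext.comp_mk₀_id]
  have hi' : ∀ {m : ℕ} (x : Ext.{u + 1} P S.X₁ m),
      (x.comp (Ext.mk₀ e.hom) (add_zero m)).comp (Ext.mk₀ e.inv) (add_zero m) = x := fun x => by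
    rw [Ext.comp_assoc_of_second_deg_zero, Ext.mk₀_comp_mk₀, e.hom_inv_id, Ext.comp_mk₀_id]
  have hp : ∀ {m : ℕ} (x : Ext.{u + 1} P S.X₁ m),
      x.comp (Ext.mk₀ S.f) (add_zero m) = (p • x).comp (Ext.mk₀ e.hom) (add_zero m) := fun x => by
    rw [he, comp_mk₀_nsmul]
    exact (map_nsmul ((Ext.mk₀ e.hom).postcomp P (add_zero _)) p x).symm
  refine nonempty_equiv_prod p (fun c => ?_) f (hS.extClass.postcomp P rfl) (fun a => ⟨fun h => ?_, ?_⟩)
    (fun c => ⟨fun h => ?_, ?_⟩) (fun a' => ⟨fun h => ?_, ?_⟩)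
  · rw [← Ext.comp_mk₀_id c, ← comp_mk₀_nsmul, hz, Ext.mk₀_zero, Ext.comp_zero]
  · obtain ⟨b, hb⟩ := Ext.covariant_sequence_exact₂ P hS (a.comp (Ext.mk₀ e.hom) (add_zero j)) h
    rw [hp] at hb
    exact ⟨b, by rw [← hi' (p • b), hb, hi']⟩
  · rintro ⟨b, rfl⟩
    rw [hf, ← hp, Ext.comp_assoc_of_second_deg_zero, Ext.mk₀_comp_mk₀, S.zero, Ext.mk₀_zero, Ext.comp_zero]
  · obtain ⟨y, rfl⟩ := Ext.covariant_sequence_exact₃ P hS c rfl h
    exact ⟨y.comp (Ext.mk₀ e.inv) (add_zero j), by rw [hf, hi]⟩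
  · rintro ⟨a, rfl⟩
    show Ext.comp _ hS.extClass rfl = 0
    rw [hf, Ext.comp_assoc_of_second_deg_zero, hS.comp_extClass, Ext.comp_zero]
  · obtain ⟨c, hc⟩ := Ext.covariant_sequence_exact₁ P hS a' (by rw [hp, h, Ext.zero_comp]) (n₀ := j) rfl
    exact ⟨c, hc⟩
  · rintro ⟨c, rfl⟩
    rw [← hi' (p • _), ← hp]
    show (((c.comp hS.extClass rfl).comp (Ext.mk₀ S.f) (add_zero (j + 1))).comp (Ext.mk₀ e.inv) (add_zero (j + 1))) = 0
    rw [Ext.comp_assoc_of_third_deg_zero c hS.extClass (Ext.mk₀ S.f) rfl, hS.extClass_comp, Ext.comp_zero, Ext.zero_comp]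

/-- The middle of a long exact sequence with multiplication by `p` on both sides, from the right. -/
theorem equiv_right {P : C} {S : ShortComplex C} (hS : S.ShortExact) (p : ℕ) [Fact p.Prime] (e : S.X₂ ≅ S.X₃)
    (he : S.g = p • e.hom) (hz : p • 𝟙 S.X₁ = 0) (j : ℕ) :
    Nonempty (Ext.{u + 1} P S.X₁ (j + 1) ≃+ (Ext.{u + 1} P S.X₂ j ⧸ (nsmulAddMonoidHom (α := Ext.{u + 1} P S.X₂ j) p).range) ×
      (nsmulAddMonoidHom (α := Ext.{u + 1} P S.X₂ (j + 1)) p).ker) := by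
  let f : Ext.{u + 1} P S.X₂ j →+ Ext.{u + 1} P S.X₁ (j + 1) :=
    (hS.extClass.postcomp P rfl).comp ((Ext.mk₀ e.hom).postcomp P (add_zero j))
  have hf : ∀ x, f x = (x.comp (Ext.mk₀ e.hom) (add_zero j)).comp hS.extClass rfl := fun x => rfl
  have hi : ∀ {m : ℕ} (x : Ext.{u + 1} P S.X₃ m),
      (x.comp (Ext.mk₀ e.inv) (add_zero m)).comp (Ext.mk₀ e.hom) (add_zero m) = x := fun x => by
    rw [Ext.comp_assoc_of_second_deg_zero, Ext.mk₀_comp_mk₀, e.inv_hom_id, Ext.comp_mk₀_id]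
  have hi' : ∀ {m : ℕ} (x : Ext.{u + 1} P S.X₂ m),
      (x.comp (Ext.mk₀ e.hom) (add_zero m)).comp (Ext.mk₀ e.inv) (add_zero m) = x := fun x => by
    rw [Ext.comp_assoc_of_second_deg_zero, Ext.mk₀_comp_mk₀, e.hom_inv_id, Ext.comp_mk₀_id]
  have hp : ∀ {m : ℕ} (x : Ext.{u + 1} P S.X₂ m),
      x.comp (Ext.mk₀ S.g) (add_zero m) = (p • x).comp (Ext.mk₀ e.hom) (add_zero m) := fun x => by
    rw [he, comp_mk₀_nsmul]
    exact (map_nsmul ((Ext.mk₀ e.hom).postcomp P (add_zero _)) p x).symm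
  refine nonempty_equiv_prod p (fun c => ?_) f ((Ext.mk₀ S.f).postcomp P (add_zero (j + 1))) (fun a => ⟨fun h => ?_, ?_⟩)
    (fun c => ⟨fun h => ?_, ?_⟩) (fun a' => ⟨fun h => ?_, ?_⟩)
  · rw [← Ext.comp_mk₀_id c, ← comp_mk₀_nsmul, hz, Ext.mk₀_zero, Ext.comp_zero]
  · obtain ⟨b, hb⟩ := Ext.covariant_sequence_exact₃ P hS (a.comp (Ext.mk₀ e.hom) (add_zero j)) rfl h
    rw [hp] at hb
    exact ⟨b, by rw [← hi' (p • b), hb, hi']⟩
  · rintro ⟨b, rfl⟩
    rw [hf, ← hp, Ext.comp_assoc_of_second_deg_zero, hS.comp_extClass, Ext.comp_zero]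
  · obtain ⟨y, rfl⟩ := Ext.covariant_sequence_exact₁ P hS c h (n₀ := j) rfl
    exact ⟨y.comp (Ext.mk₀ e.inv) (add_zero j), by rw [hf, hi]⟩
  · rintro ⟨a, rfl⟩
    show (f a).comp (Ext.mk₀ S.f) (add_zero (j + 1)) = 0
    rw [hf, Ext.comp_assoc_of_third_deg_zero _ hS.extClass (Ext.mk₀ S.f) rfl, hS.extClass_comp, Ext.comp_zero]
  · obtain ⟨c, hc⟩ := Ext.covariant_sequence_exact₂ P hS a' (by rw [hp, h, Ext.zero_comp])
    exact ⟨c, hc⟩
  · rintro ⟨c, rfl⟩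
    rw [← hi' (p • _), ← hp]
    show ((c.comp (Ext.mk₀ S.f) (add_zero (j + 1))).comp (Ext.mk₀ S.g) (add_zero (j + 1))).comp (Ext.mk₀ e.inv) (add_zero (j + 1)) = 0
    rw [Ext.comp_assoc_of_second_deg_zero c (Ext.mk₀ S.f), Ext.mk₀_comp_mk₀, S.zero, Ext.mk₀_zero, Ext.comp_zero, Ext.zero_comp]

theorem prodCongr_nonempty {A A' B B' : Type*} [AddCommGroup A] [AddCommGroup A'] [AddCommGroup B] [AddCommGroup B']
    (p : ℕ) (e : A ≃+ B) (e' : A' ≃+ B') :
    Nonempty ((A ⧸ (nsmulAddMonoidHom (α := A) p).range) × (nsmulAddMonoidHom (α := A') p).ker ≃+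
      (B ⧸ (nsmulAddMonoidHom (α := B) p).range) × (nsmulAddMonoidHom (α := B') p).ker) := by
  refine ⟨AddEquiv.prodCongr (QuotientAddGroup.congr _ _ e ?_)
    { toFun := fun x => ⟨e' x.1, ?_⟩
      invFun := fun x => ⟨e'.symm x.1, ?_⟩
      left_inv := fun x => Subtype.ext (e'.symm_apply_apply x.1)
      right_inv := fun x => Subtype.ext (e'.apply_symm_apply x.1)
      map_add' := fun x y => Subtype.ext (map_add e' x.1 y.1) }⟩
  · ext y
    constructor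
    · rintro ⟨_, ⟨a, rfl⟩, rfl⟩
      exact ⟨e a, (map_nsmul e p a).symm⟩
    · rintro ⟨b, rfl⟩
      exact ⟨p • e.symm b, ⟨e.symm b, rfl⟩, by
        show e (p • e.symm b) = p • b
        rw [map_nsmul, AddEquiv.apply_symm_apply]⟩
  · show p • e' x.1 = 0
    rw [← map_nsmul]
    exact (congrArg e' x.2).trans (map_zero e')
  · show p • e'.symm x.1 = 0
    rw [← map_nsmul]
    exact (congrArg e'.symm x.2).trans (map_zero e'.symm)

/-- `H^{j+1}_fl(X, μ_p) ≅ H^j(X, G_m/p)`. -/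
theorem nonempty_equiv (p : ℕ) [hp : Fact p.Prime] (X : Scheme.{u}) [FrobSch.IsCharP X p] [IsReduced X]
    [EtFppf.ACont X] (j : ℕ) :
    Nonempty (EtFppf.HF X (kernel (p • 𝟙 (EtDl.GmF X))) (j + 1) ≃+ EtCoh.H X (cokernel (EtCoh.powMap X p)) j) := by
  haveI := epi_nsmul_GmF X p hp.out.pos
  haveI := mono_powMap X p
  let S : ShortComplex (EtFppf.AbF X) := ShortComplex.mk (kernel.ι (p • 𝟙 (EtDl.GmF X))) (p • 𝟙 _) (kernel.condition _)
  have hS : S.ShortExact := { exact := ShortComplex.exact_of_f_is_kernel _ (kernelIsKernel _) }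
  let S' : ShortComplex (EtCoh.Ab X) := ShortComplex.mk (EtCoh.powMap X p) (cokernel.π _) (cokernel.condition _)
  have hS' : S'.ShortExact := { exact := ShortComplex.exact_of_g_is_cokernel _ (cokernelIsCokernel _) }
  have hz : p • 𝟙 S.X₁ = 0 := by
    rw [← cancel_mono S.f, Preadditive.nsmul_comp, Category.id_comp, zero_comp]
    show p • kernel.ι (p • 𝟙 (EtDl.GmF X)) = 0
    exact (by rw [Preadditive.comp_nsmul, Category.comp_id] :
      kernel.ι (p • 𝟙 (EtDl.GmF X)) ≫ (p • 𝟙 (EtDl.GmF X)) = p • kernel.ι (p • 𝟙 (EtDl.GmF X))).symm.trans (kernel.condition _)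
  have hz' : p • 𝟙 S'.X₃ = 0 := by
    haveI : Epi S'.g := inferInstanceAs (Epi (cokernel.π _))
    rw [← cancel_epi S'.g, Preadditive.comp_nsmul, Category.comp_id, comp_zero]
    show p • cokernel.π (EtCoh.powMap X p) = 0
    exact (by rw [show EtCoh.powMap X p = p • 𝟙 (EtCoh.Gm X) from rfl, Preadditive.nsmul_comp, Category.id_comp] :
      EtCoh.powMap X p ≫ cokernel.π (EtCoh.powMap X p) = p • cokernel.π (EtCoh.powMap X p)).symm.trans (cokernel.condition _)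
  have iso : ∀ q, Nonempty (EtFppf.HF X (EtDl.GmF X) q ≃+ EtCoh.H X (EtCoh.Gm X) q) := fun q => by
    obtain ⟨e⟩ := EtFppfLib.nonempty_H_aPush_equiv_HF _ (EtFppfLib.acy_GmF X) q
    exact ⟨e.symm.trans
      { toFun := Sheaf.H.map (gmIso X).hom q
        invFun := Sheaf.H.map (gmIso X).inv q
        left_inv := fun x => by rw [← Sheaf.H.map_comp_apply, Iso.hom_inv_id, Sheaf.H.map_id_apply]
        right_inv := fun x => by rw [← Sheaf.H.map_comp_apply, Iso.inv_hom_id, Sheaf.H.map_id_apply]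
        map_add' := map_add _ }⟩
  obtain ⟨a⟩ := equiv_right (P := (constantSheaf (EtFppf.J X) AddCommGrpCat.{u + 1}).obj (AddCommGrpCat.of (ULift.{u + 1} ℤ))) hS p (Iso.refl _) rfl hz j
  obtain ⟨b⟩ := equiv_left (P := (constantSheaf X.smallEtaleTopology AddCommGrpCat.{u + 1}).obj (AddCommGrpCat.of (ULift.{u + 1} ℤ))) hS' p (Iso.refl _) rfl hz' j
  obtain ⟨e0⟩ := iso j
  obtain ⟨e1⟩ := iso (j + 1)
  obtain ⟨c⟩ := prodCongr_nonempty p e0 e1
  exact ⟨(a.trans c).trans b.symm⟩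

end MuFppfLib
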